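import Groth.Agent.VBP1P1.Cohom
import Groth.Agent.CohBig.RVan
import Groth.Agent.CohBig.Small
import Groth.Agent.PencilH1.Basic
import Groth.Agent.CurveRR.GGVanish
import Groth.Agent.DCohShriek.DualModuleField
import Groth.Agent.FBaseDim.Product
import Groth.Agent.S10829
import Groth.Agent.K0Coh.Basic
import Groth.Agent.DQCoh.Tensor
import Groth.Agent.ResDesc.Main
import Groth.Prelude.Def_W4c3multigrregularBiProj

/-!
# Regularity of tensor products on a product of two projective lines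
-/

set_option autoImplicit false
set_option backward.isDefEq.respectTransparency false
set_option linter.style.haveILetI false
set_option linter.unusedSectionVars false
set_option maxHeartbeats 800000

universe u

open CategoryTheory CategoryTheory.Limits AlgebraicGeometry
open Groth.Agent.CohFinite (tmap)
open Groth.Agent.SGA6Ext
open Groth.Agent.VBP1P1 (T O)

attribute [local instance] Abelian.hasFiniteBiproducts

noncomputable section

namespace Groth.Agent.BiRegP1

variable (k : Type u) [Field k]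

/-- Cohomology of quasi-coherent modules on `P¹ × P¹` vanishes above degree two. -/
theorem subsingleton_above (M : (T k).Modules) (hM : Coh.IsQCoh M) (q : ℕ) (hq : 2 < q) :
    Subsingleton (Coh.HH (T k) M q) := by
  let f := CohB1.ProjSpace.toSpec (1 : ℕ) k
  haveI : IsProper f := ProjMor.isProper_toSpec 1 k
  letI : (T k).Over (Spec (CommRingCat.of k)) := ⟨pullback.fst f f ≫ f⟩
  haveI : IsProper (T k ↘ Spec (CommRingCat.of k)) := inferInstanceAs (IsProper (pullback.fst f f ≫ f))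
  refine DCohShriek.subsingleton_hh_of_dim_le k 2 ?_ M hM q hq
  rw [FBaseDim.topologicalKrullDim_prod f f, S10829.result k 1]
  norm_num

variable {k}

/-- A finite free module tensored with `A`. -/
theorem subsingleton_free_tensor {l : ℕ} (A : (T k).Modules) (q : ℕ) (h : Subsingleton (Coh.HH (T k) A q)) :
    Subsingleton (Coh.HH (T k)
      (CohB1.tensorMod (⨁ fun _ : Fin l => Coh.structureModule (T k)) A) q) := by
  refine CohQC.hh_subsingleton_of_iso
    (PicGrp.tensorModIso (biproduct.isoCoproduct fun _ : Fin l => Coh.structureModule (T k)) (Iso.refl A)).symm q ?_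
  exact VBP1P1.subsingleton_tensor_coprod (fun _ : Fin l => Coh.structureModule (T k)) A q
    fun _ => CohQC.hh_subsingleton_of_iso (TMul.leftUnitIso A).symm q h

theorem isFinLocFree_free (l : ℕ) : FlatMod.IsFinLocFree (⨁ fun _ : Fin l => Coh.structureModule (T k)) :=
  DerPerf.isFinLocFree_of_isColimit (c := (biproduct.bicone _).toCocone) Finset.univ (biproduct.isColimit _)
    (fun i h => absurd (Finset.mem_univ i) h) (fun _ _ => ResDesc.isFinLocFree_structureModule _)

theorem isCoh_free (l : ℕ) : Coh.IsQCoh (⨁ fun _ : Fin l => Coh.structureModule (T k)) :=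
  DQCoh.isQCoh_of_isFinLocFree (isFinLocFree_free l)

/-- The top degree: vanishing passes to tensor products with globally generated modules. -/
theorem degree_two {A G : (T k).Modules} (hA : Coh.IsCoh A) (hG : Coh.IsCoh G)
    (hgg : Curv2.IsGloballyGenerated G) (h2 : Subsingleton (Coh.HH (T k) A 2)) :
    Subsingleton (Coh.HH (T k) (CohB1.tensorMod G A) 2) := by
  haveI : IsProper (CohB1.ProjSpace.toSpec (1 : ℕ) k) := ProjMor.isProper_toSpec 1 k
  haveI := LocallyOfFiniteType.isLocallyNoetherian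
    (pullback.fst (CohB1.ProjSpace.toSpec 1 k) (CohB1.ProjSpace.toSpec 1 k) ≫ CohB1.ProjSpace.toSpec 1 k)
  haveI : CompactSpace (T k) := QuasiCompact.compactSpace_of_compactSpace
    (pullback.fst (CohB1.ProjSpace.toSpec 1 k) (CohB1.ProjSpace.toSpec 1 k) ≫ CohB1.ProjSpace.toSpec 1 k)
  obtain ⟨l, s, hs⟩ := CurveRR.exists_finite_sections hG hgg
  let φ := biproduct.desc (f := fun _ : Fin l => Coh.structureModule (T k)) fun i => TMul.homOf (s i)
  haveI : Epi φ := hs
  haveI := CohBig.epi_tmap φ A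
  exact CohBig.transfer_epi (X := T k) (tmap φ A) 2 (fun M hM => subsingleton_above k M hM 3 (by norm_num))
    (DQCoh.isQCoh_tensor (isCoh_free l) hA.1) (DQCoh.isQCoh_tensor hG.1 hA.1) (subsingleton_free_tensor A 2 h2)

/-- Degree one: `A = B ⊗ L` with `B` globally generated. -/
theorem degree_one {A B G L : (T k).Modules} (hA : FlatMod.IsFinLocFree A) (hG : FlatMod.IsFinLocFree G)
    (hB : Coh.IsCoh B) (hL : FlatMod.IsFinLocFree L) (e : A ≅ CohB1.tensorMod B L)
    (hggG : Curv2.IsGloballyGenerated G) (hggB : Curv2.IsGloballyGenerated B)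
    (hA1 : Subsingleton (Coh.HH (T k) A 1))
    (hGL : Subsingleton (Coh.HH (T k) (CohB1.tensorMod G L) 1))
    (hL2 : Subsingleton (Coh.HH (T k) L 2)) :
    Subsingleton (Coh.HH (T k) (CohB1.tensorMod G A) 1) := by
  haveI : IsProper (CohB1.ProjSpace.toSpec (1 : ℕ) k) := ProjMor.isProper_toSpec 1 k
  haveI := LocallyOfFiniteType.isLocallyNoetherian
    (pullback.fst (CohB1.ProjSpace.toSpec 1 k) (CohB1.ProjSpace.toSpec 1 k) ≫ CohB1.ProjSpace.toSpec 1 k)
  haveI : CompactSpace (T k) := QuasiCompact.compactSpace_of_compactSpace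
    (pullback.fst (CohB1.ProjSpace.toSpec 1 k) (CohB1.ProjSpace.toSpec 1 k) ≫ CohB1.ProjSpace.toSpec 1 k)
  obtain ⟨l, s, hs⟩ := CurveRR.exists_finite_sections (K0Coh.isCoh_of_isFinLocFree hG) hggG
  let φ := biproduct.desc (f := fun _ : Fin l => Coh.structureModule (T k)) fun i => TMul.homOf (s i)
  haveI : Epi φ := hs
  let S := ShortComplex.mk (kernel.ι φ) φ (kernel.condition φ)
  have hS : S.ShortExact := { exact := ShortComplex.exact_of_f_is_kernel _ (kernelIsKernel φ) }
  have hKq : Coh.IsQCoh (kernel φ) := QC.isQCoh_kernel (isCoh_free l) (DQCoh.isQCoh_of_isFinLocFree hG) φ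
  have hKcoh : Coh.IsCoh (kernel φ) := QC.isCoh_kernel
    (K0Coh.isCoh_of_isFinLocFree (isFinLocFree_free l))
    (DQCoh.isQCoh_of_isFinLocFree hG) φ
  have hLc : Coh.IsCoh L := K0Coh.isCoh_of_isFinLocFree hL
  have hKL : Subsingleton (Coh.HH (T k) (CohB1.tensorMod (kernel φ) L) 2) :=
    CohBig.subsingleton_left (CurveRR.shortExact_tmapR (PencilH1.hasFrames hL) hS) 1
      (subsingleton_free_tensor L 2 hL2) hGL
  have hKA : Subsingleton (Coh.HH (T k) (CohB1.tensorMod (kernel φ) A) 2) :=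
    CohQC.hh_subsingleton_of_iso (PicGrp.tensorModIso (Iso.refl _) e ≪≫
      (TMul.assocIso _ _ _).symm ≪≫ PicGrp.tensorModIso (TMul.commIso _ _) (Iso.refl _) ≪≫ TMul.assocIso _ _ _).symm 2
      (degree_two (CurveRR.isCoh_tensor' hKcoh hLc) hB hggB hKL)
  exact CohBig.subsingleton_right (CurveRR.shortExact_tmapR (PencilH1.hasFrames hA) hS) 1
    hKA (subsingleton_free_tensor A 1 hA1)

/-- The tensor product of a `(p, q)`-regular and an `(m, n)`-regular bundle is `(p + m, q + n)`-regular. -/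
theorem isBiReg_tensor (G₁ G₂ : (T k).Modules) (hG₁ : FlatMod.IsFinLocFree G₁) (hG₂ : FlatMod.IsFinLocFree G₂)
    (p q m n : ℤ)
    (hreg₁ : W4c3multigrregular.IsBiReg 1 1 k G₁ p q) (hreg₂ : W4c3multigrregular.IsBiReg 1 1 k G₂ m n)
    (hgg₁ : Curv2.IsGloballyGenerated (CohB1.tensorMod G₁ (O k p q)))
    (hgg₂ : Curv2.IsGloballyGenerated (CohB1.tensorMod G₂ (O k m n))) :
    W4c3multigrregular.IsBiReg 1 1 k (CohB1.tensorMod G₁ G₂) (p + m) (q + n) := by
  intro a b hab
  have hlf : ∀ c d : ℤ, FlatMod.IsFinLocFree (CohB1.tensorMod G₁ (O k c d)) := fun c d =>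
    ResDesc.isFinLocFree_tensorMod hG₁ (VBP1P1.isFinLocFree_O k c d)
  have hG₂' : FlatMod.IsFinLocFree (CohB1.tensorMod G₂ (O k m n)) :=
    ResDesc.isFinLocFree_tensorMod hG₂ (VBP1P1.isFinLocFree_O k m n)
  -- the target as `G₂(m, n) ⊗ G₁(p - a, q - b)`
  obtain ⟨o⟩ := VBP1P1.nonempty_O_add (k := k) (p - a) (q - b) m n
  have e : CohB1.tensorMod (CohB1.tensorMod G₁ G₂) (O k (p + m - a) (q + n - b)) ≅
      CohB1.tensorMod (CohB1.tensorMod G₂ (O k m n)) (CohB1.tensorMod G₁ (O k (p - a) (q - b))) :=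
    PicGrp.tensorModIso (Iso.refl _) (eqToIso (by ring_nf) ≪≫ o.symm) ≪≫ TMul.swapIso _ _ _ _ ≪≫ TMul.commIso _ _
  refine CohQC.hh_subsingleton_of_iso e.symm (a + b) ?_
  have hA : Subsingleton (Coh.HH (T k) (CohB1.tensorMod G₁ (O k (p - a) (q - b))) (a + b)) := hreg₁ a b hab
  rcases (by omega : a + b = 1 ∨ a + b = 2 ∨ 2 < a + b) with h | h | h
  · obtain ⟨o₁⟩ := VBP1P1.nonempty_O_add (k := k) p q (-a : ℤ) (-b : ℤ)
    obtain ⟨o₂⟩ := VBP1P1.nonempty_O_add (k := k) m n (-a : ℤ) (-b : ℤ)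
    rw [h] at hA ⊢
    refine degree_one (hlf _ _) hG₂' (K0Coh.isCoh_of_isFinLocFree (hlf p q)) (VBP1P1.isFinLocFree_O k (-a : ℤ) (-b : ℤ))
      (PicGrp.tensorModIso (Iso.refl _) (eqToIso (by ring_nf) ≪≫ o₁.symm) ≪≫ (TMul.assocIso _ _ _).symm)
      hgg₂ hgg₁ hA ?_ ?_
    · refine CohQC.hh_subsingleton_of_iso (TMul.assocIso _ _ _ ≪≫
        PicGrp.tensorModIso (Iso.refl _) (o₂ ≪≫ eqToIso (show O k (m + -(a : ℤ)) (n + -(b : ℤ)) = O k (m - a) (n - b) by ring_nf))).symm 1 ?_
      have := hreg₂ a b hab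
      rw [h] at this
      exact this
    · refine VBP1P1.vanish _ _ 2 fun i j hij => ?_
      rintro ⟨hi, hj⟩
      simp only [VBP1P1.Supp] at hi hj
      omega
  · rw [h] at hA ⊢
    exact degree_two (K0Coh.isCoh_of_isFinLocFree (hlf _ _)) (K0Coh.isCoh_of_isFinLocFree hG₂') hgg₂ hA
  · exact subsingleton_above k _ (DQCoh.isQCoh_tensor (DQCoh.isQCoh_of_isFinLocFree hG₂')
      (DQCoh.isQCoh_of_isFinLocFree (hlf _ _))) _ h

end Groth.Agent.BiRegP1
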