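import Groth.Agent.BiRegP1.ExtAlg
import Groth.Agent.SGA6Ext.Exists
import Groth.Agent.CohFinite.Tensor

/-!
# `G ⊗ (G ⊗ ⋀ⁿ G) → G ⊗ ⋀ⁿ⁺¹ G → ⋀ⁿ⁺² G → 0` for a vector bundle `G` when `2` is invertible
-/

set_option autoImplicit false
set_option backward.isDefEq.respectTransparency false
set_option backward.isDefEq.respectTransparency.types false
set_option linter.style.haveILetI false
set_option linter.unusedSectionVars false
set_option maxHeartbeats 1000000

universe u

open CategoryTheory CategoryTheory.Limits AlgebraicGeometry TopologicalSpace Opposite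
open Groth.Agent.QC (res resO res_res res_self res_smul app_res)
open Groth.Agent.CohFinite (tmap tmap_tm)
open Groth.Agent.SGA6Ext
open TMul (tm)
open scoped TensorProduct

noncomputable section

namespace Groth.Agent.BiRegP1

variable {X : Scheme.{u}} {G : X.Modules}

theorem extRes_lmul (n : ℕ) {V U : X.Opens} (h : V ≤ U) (m : Sec G U) (z : ↥(⋀[Γ(X, U)]^n (Sec G U))) :
    extRes G (n + 1) h (lmul Γ(X, U) (Sec G U) n m z) =
      lmul Γ(X, V) (Sec G V) n (secRes G h m) (extRes G n h z) :=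
  Subtype.ext (by
    show extHom _ _ _ _ = ExteriorAlgebra.ι _ _ * extHom _ _ _ _
    rw [coe_lmul, map_mul, extHom_ι])

variable (hG : FlatMod.IsFinLocFree G)

/-- The identification with exterior powers on affine opens. -/
def etaE (n : ℕ) {V : X.Opens} (hV : IsAffineOpen V) :
    ↥(⋀[Γ(X, V)]^n (Sec G V)) ≃ₗ[Γ(X, V)] Sec (extSh G n) V :=
  LinearEquiv.ofBijective (eta G n V) (eta_bijective G n hG hV)

include hG in
theorem exists_mul (n : ℕ) :
    ∃ μ : CohB1.tensorMod G (extSh G n) ⟶ extSh G (n + 1),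
      ∀ (V : X.Opens) (_ : IsAffineOpen V) (m : Sec G V) (z : ↥(⋀[Γ(X, V)]^n (Sec G V))),
        μ.app V (tm m (eta G n V z : Sec (extSh G n) V)) = eta G (n + 1) V (lmul Γ(X, V) (Sec G V) n m z) := by
  obtain ⟨μ, hμ⟩ := exists_bilHom (M := G) (N := extSh G n) (P := extSh G (n + 1)) isBase_affine
    (fun V hV => ((lmul Γ(X, V) (Sec G V) n).compl₂ (etaE hG n hV).symm.toLinearMap).compr₂ (eta G (n + 1) V))
    (fun W V hW hV h m t => by
      obtain ⟨z, rfl⟩ := (etaE hG n hV).surjective t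
      change secRes (extSh G (n + 1)) h (eta G (n + 1) V (lmul _ _ n m ((etaE hG n hV).symm (etaE hG n hV z)))) =
        eta G (n + 1) W (lmul _ _ n (secRes G h m) ((etaE hG n hW).symm (secRes (extSh G n) h (eta G n V z))))
      rw [LinearEquiv.symm_apply_apply, eta_res, eta_res]
      exact congrArg (eta G (n + 1) W) ((extRes_lmul n h m z).trans
        (congrArg _ ((etaE hG n hW).symm_apply_apply _).symm)))
  refine ⟨μ, fun V hV m z => ?_⟩
  rw [hμ V hV m _]
  change eta G (n + 1) V (lmul _ _ n m ((etaE hG n hV).symm (etaE hG n hV z))) = _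
  rw [LinearEquiv.symm_apply_apply]

/-- The product. -/
def mul (n : ℕ) : CohB1.tensorMod G (extSh G n) ⟶ extSh G (n + 1) := (exists_mul hG n).choose

theorem mul_tm (n : ℕ) {V : X.Opens} (hV : IsAffineOpen V) (m : Sec G V) (z : ↥(⋀[Γ(X, V)]^n (Sec G V))) :
    (mul hG n).app V (tm m (eta G n V z : Sec (extSh G n) V)) = eta G (n + 1) V (lmul Γ(X, V) (Sec G V) n m z) :=
  (exists_mul hG n).choose_spec V hV m z

/-- The symmetrization. -/
def sym (n : ℕ) : CohB1.tensorMod G (CohB1.tensorMod G (extSh G n)) ⟶ CohB1.tensorMod G (extSh G (n + 1)) :=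
  let c := TMul.commHom G (CohB1.tensorMod G (extSh G n)) ≫ tmap (mul hG n) G ≫ TMul.commHom (extSh G (n + 1)) G
  c + (TMul.assocInv G G (extSh G n) ≫ tmap (TMul.commHom G G) (extSh G n) ≫ TMul.assocHom G G (extSh G n)) ≫ c

theorem sym_tm (n : ℕ) {V : X.Opens} (hV : IsAffineOpen V) (a b : Sec G V) (z : ↥(⋀[Γ(X, V)]^n (Sec G V))) :
    (sym hG n).app V (tm a (tm b (eta G n V z : Sec (extSh G n) V))) =
      tm a (eta G (n + 1) V (lmul _ _ n b z) : Sec (extSh G (n + 1)) V) +
        tm b (eta G (n + 1) V (lmul _ _ n a z) : Sec (extSh G (n + 1)) V) := by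
  have hc : ∀ a b : Sec G V, (TMul.commHom G (CohB1.tensorMod G (extSh G n)) ≫ tmap (mul hG n) G ≫
      TMul.commHom (extSh G (n + 1)) G).app V (tm a (tm b (eta G n V z : Sec (extSh G n) V))) =
      tm a (eta G (n + 1) V (lmul _ _ n b z) : Sec (extSh G (n + 1)) V) := fun a b => by
    change (TMul.commHom (extSh G (n + 1)) G).app V ((tmap (mul hG n) G).app V
      ((TMul.commHom G (CohB1.tensorMod G (extSh G n))).app V (tm a (tm b (eta G n V z : Sec (extSh G n) V))))) = _
    rw [TMul.commHom_tm, tmap_tm, mul_tm hG n hV, TMul.commHom_tm]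
  refine congrArg₂ (· + ·) (hc a b) ?_
  change (TMul.commHom G (CohB1.tensorMod G (extSh G n)) ≫ tmap (mul hG n) G ≫
      TMul.commHom (extSh G (n + 1)) G).app V ((TMul.assocHom G G (extSh G n)).app V
        ((tmap (TMul.commHom G G) (extSh G n)).app V ((TMul.assocInv G G (extSh G n)).app V
          (tm a (tm b (eta G n V z : Sec (extSh G n) V)))))) = _
  rw [TMul.assocInv_tm, tmap_tm, TMul.commHom_tm, TMul.assocHom_tm, hc]

/-- Tensors of sections give sections. -/
def theta (n : ℕ) (V : X.Opens) :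
    Sec G V ⊗[Γ(X, V)] ↥(⋀[Γ(X, V)]^n (Sec G V)) →ₗ[Γ(X, V)] Sec (CohB1.tensorMod G (extSh G n)) V :=
  TensorProduct.lift (LinearMap.mk₂ _ (fun m z => tm m (eta G n V z : Sec (extSh G n) V))
    (fun m m' z => TMul.tm_add m m' _) (fun r m z => TMul.smul_tm r m _)
    (fun m z z' => by rw [map_add]; exact TMul.add_tm _ _ _)
    (fun r m z => by rw [map_smul]; exact TMul.tm_smul _ _ _))

theorem theta_tmul (n : ℕ) (V : X.Opens) (m : Sec G V) (z : ↥(⋀[Γ(X, V)]^n (Sec G V))) :
    theta n V (m ⊗ₜ z) = tm m (eta G n V z : Sec (extSh G n) V) := rfl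

/-- Iterated tensors of sections give sections. -/
def theta₂ (n : ℕ) (V : X.Opens) :
    Sec G V ⊗[Γ(X, V)] (Sec G V ⊗[Γ(X, V)] ↥(⋀[Γ(X, V)]^n (Sec G V))) →ₗ[Γ(X, V)]
      Sec (CohB1.tensorMod G (CohB1.tensorMod G (extSh G n))) V :=
  TensorProduct.lift (LinearMap.mk₂ _ (fun m t => tm m (theta n V t : Sec (CohB1.tensorMod G (extSh G n)) V))
    (fun m m' t => TMul.tm_add m m' _) (fun r m t => TMul.smul_tm r m _)
    (fun m t t' => by rw [map_add]; exact TMul.add_tm _ _ _)
    (fun r m t => by rw [map_smul]; exact TMul.tm_smul _ _ _))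

theorem mul_theta (n : ℕ) {V : X.Opens} (hV : IsAffineOpen V)
    (t : Sec G V ⊗[Γ(X, V)] ↥(⋀[Γ(X, V)]^n (Sec G V))) :
    secMap (mul hG n) V (theta n V t) = eta G (n + 1) V (TensorProduct.lift (lmul _ _ n) t) := by
  have : secMap (mul hG n) V ∘ₗ theta n V = eta G (n + 1) V ∘ₗ TensorProduct.lift (lmul _ _ n) :=
    TensorProduct.ext' fun m z => mul_tm hG n hV m z
  exact LinearMap.congr_fun this t

theorem sym_theta (n : ℕ) {V : X.Opens} (hV : IsAffineOpen V)
    (t : Sec G V ⊗[Γ(X, V)] (Sec G V ⊗[Γ(X, V)] ↥(⋀[Γ(X, V)]^n (Sec G V)))) :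
    secMap (sym hG n) V (theta₂ n V t) = theta (n + 1) V (symMap _ _ n t) := by
  have : secMap (sym hG n) V ∘ₗ theta₂ n V = theta (n + 1) V ∘ₗ symMap _ _ n := by
    refine TensorProduct.ext (LinearMap.ext fun a => TensorProduct.ext' fun b z => ?_)
    refine (sym_tm hG n hV a b z).trans ?_
    change _ = theta (n + 1) V (symMap _ _ n (a ⊗ₜ (b ⊗ₜ z)))
    rw [symMap_tmul, map_add, theta_tmul, theta_tmul]
  exact LinearMap.congr_fun this t

/-- Affine opens inside frames. -/
def GoodE (G : X.Modules) (V : X.Opens) : Prop :=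
  IsAffineOpen V ∧ ∃ (U : X.Opens) (a : ℕ) (e : Fin a → Γ(G, U)), TMul.IsFrame e ∧ V ≤ U

include hG in
theorem isBase_goodE : IsBase (GoodE G) := fun U x hx => by
  obtain ⟨U₁, a, e, hx₁, he⟩ := TMul.exists_isFrame hG x
  obtain ⟨V, hV, hxV, hle⟩ := exists_isAffineOpen_mem_and_subset (X := X) (x := x) (U := U ⊓ U₁) ⟨hx, hx₁⟩
  have hle' : V ≤ U ⊓ U₁ := hle
  exact ⟨V, ⟨hV, U₁, a, e, he, hle'.trans inf_le_right⟩, hxV, hle'.trans inf_le_left⟩

include hG in
theorem surjective_theta (n : ℕ) {V : X.Opens} (hV : GoodE G V) : Function.Surjective (theta (G := G) n V) := by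
  intro t
  obtain ⟨U, a, e, he, hle⟩ := hV.2
  obtain ⟨c, rfl⟩ := (he.tm_bijective (M := extSh G n) V hle).2 t
  refine ⟨∑ i, (res G hle (e i) : Sec G V) ⊗ₜ (etaE hG n hV.1).symm (c i), ?_⟩
  rw [map_sum]
  refine Finset.sum_congr rfl fun i _ => ?_
  exact congrArg (tm (res G hle (e i))) ((etaE hG n hV.1).apply_symm_apply (c i))

theorem epi_mul (n : ℕ) : Epi (mul hG n) :=
  epi_of_base isBase_affine (mul hG n) fun V hV t => by
    obtain ⟨z, rfl⟩ := (etaE hG (n + 1) hV).surjective t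
    obtain ⟨w, rfl⟩ := surjective_lift_lmul Γ(X, V) (Sec G V) n z
    exact ⟨theta n V w, mul_theta hG n hV w⟩

theorem sym_mul (n : ℕ) : sym hG n ≫ mul hG (n + 1) = 0 := by
  refine hom_ext_base (isBase_goodE hG) fun V hV m t => ?_
  obtain ⟨w, rfl⟩ := surjective_theta hG n hV t
  change secMap (mul hG (n + 1)) V (secMap (sym hG n) V (theta₂ n V (m ⊗ₜ w))) = 0
  rw [sym_theta hG n hV.1, mul_theta hG (n + 1) hV.1]
  have hz : TensorProduct.lift (lmul Γ(X, V) (Sec G V) (n + 1)) ∘ₗ symMap Γ(X, V) (Sec G V) n = 0 := by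
    refine TensorProduct.ext (LinearMap.ext fun x => TensorProduct.ext' fun y z => ?_)
    change TensorProduct.lift (lmul Γ(X, V) (Sec G V) (n + 1)) (symMap _ _ n (x ⊗ₜ (y ⊗ₜ z))) = 0
    rw [symMap_tmul, map_add, TensorProduct.lift.tmul, TensorProduct.lift.tmul]
    refine Subtype.ext ?_
    rw [Submodule.coe_add, coe_lmul, coe_lmul, coe_lmul, coe_lmul, ← mul_assoc, ← mul_assoc, ← add_mul,
      ExteriorAlgebra.ι_add_mul_swap, zero_mul]
    rfl
  exact (congrArg _ (LinearMap.congr_fun hz _)).trans (map_zero _)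

/-- The kernel of the product is covered by the symmetrization. -/
theorem epi_lift (h2 : ∀ V : X.Opens, IsAffineOpen V → IsUnit (2 : Γ(X, V))) (n : ℕ) :
    Epi (kernel.lift (mul hG (n + 1)) (sym hG n) (sym_mul hG n)) :=
  epi_of_base (isBase_goodE hG) _ fun V hV s => by
    obtain ⟨a, ha⟩ := surjective_theta hG (n + 1) hV ((kernel.ι (mul hG (n + 1))).app V s)
    have h0 : (mul hG (n + 1)).app V ((kernel.ι (mul hG (n + 1))).app V s) = 0 :=
      (congrArg (fun χ : kernel (mul hG (n + 1)) ⟶ extSh G (n + 1 + 1) => χ.app V s) (kernel.condition _)).trans rfl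
    have hl : TensorProduct.lift (lmul Γ(X, V) (Sec G V) (n + 1)) a = 0 := by
      refine (eta_bijective G (n + 1 + 1) hG hV.1).1 ?_
      rw [map_zero, ← mul_theta hG (n + 1) hV.1, ha]
      exact h0
    obtain ⟨w, hw⟩ := mem_range_symMap Γ(X, V) (Sec G V) (h2 V hV.1) n hl
    refine ⟨theta₂ n V w, ZCl.injective_of_mono (kernel.ι (mul hG (n + 1))) V ?_⟩
    refine (congrArg (fun χ : CohB1.tensorMod G (CohB1.tensorMod G (extSh G n)) ⟶ CohB1.tensorMod G (extSh G (n + 1)) =>
      χ.app V (theta₂ n V w)) (kernel.lift_ι _ _ (sym_mul hG n))).trans ?_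
    change secMap (sym hG n) V (theta₂ n V w) = _
    rw [sym_theta hG n hV.1, hw]
    exact ha

end Groth.Agent.BiRegP1
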