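import Groth.Agent.BiRegP1.Basic
import Groth.Agent.BiRegP1.ExtSeq
import Groth.Agent.FreeCurve.FreeIff
import Groth.Prelude.Def_ExtPow2

/-!
# Regularity of exterior powers on a product of two projective lines
-/

set_option autoImplicit false
set_option backward.isDefEq.respectTransparency false
set_option linter.style.haveILetI false
set_option linter.unusedSectionVars false
set_option maxHeartbeats 1000000

universe u

open CategoryTheory CategoryTheory.Limits AlgebraicGeometry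
open Groth.Agent.CohFinite (tmap)
open Groth.Agent.SGA6Ext (extSh isFinLocFree_extSh)
open Groth.Agent.VBP1P1 (T O)

attribute [local instance] Abelian.hasFiniteBiproducts

noncomputable section

namespace Groth.Agent.BiRegP1

theorem isQCoh_tm {X : Scheme.{u}} {F G : X.Modules} (hF : Coh.IsQCoh F) (hG : Coh.IsQCoh G) :
    Coh.IsQCoh (CohB1.tensorMod F G) :=
  DQCoh.isQCoh_tensor hF hG

theorem gg_structureModule (X : Scheme.{u}) : Curv2.IsGloballyGenerated (Coh.structureModule X) := by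
  let p : (SheafOfModules.free (R := X.ringCatSheaf) PUnit.{u + 1} : X.Modules) ⟶ Coh.structureModule X :=
    Sigma.desc fun _ => 𝟙 _
  have h : Sigma.ι (fun _ : PUnit.{u + 1} => SheafOfModules.unit X.ringCatSheaf) PUnit.unit ≫ p = 𝟙 _ :=
    Sigma.ι_desc _ _
  refine ⟨PUnit.{u + 1}, p, ⟨fun {Z} a b hab => ?_⟩⟩
  have := congrArg (fun χ => Sigma.ι (fun _ : PUnit.{u + 1} => (SheafOfModules.unit X.ringCatSheaf : X.Modules))
    PUnit.unit ≫ χ) hab
  simp only [← Category.assoc] at this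
  erw [h] at this
  simpa using this

/-- Tensor products of globally generated coherent modules are globally generated. -/
theorem gg_tensor {X : Scheme.{u}} [IsLocallyNoetherian X] [CompactSpace X] {A B : X.Modules} (hA : Coh.IsCoh A)
    (hA' : Curv2.IsGloballyGenerated A) (hB' : Curv2.IsGloballyGenerated B) :
    Curv2.IsGloballyGenerated (CohB1.tensorMod A B) := by
  obtain ⟨l, s, hs⟩ := CurveRR.exists_finite_sections hA hA'
  let φ := biproduct.desc (f := fun _ : Fin l => Coh.structureModule X) fun i => TMul.homOf (s i)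
  haveI : Epi φ := hs
  haveI := CohBig.epi_tmap φ B
  let ψ : (∐ fun _ : Fin l => B) ⟶ CohB1.tensorMod (⨁ fun _ : Fin l => Coh.structureModule X) B :=
    Sigma.desc fun i => (TMul.leftUnitIso B).inv ≫ tmap (biproduct.ι (fun _ : Fin l => Coh.structureModule X) i) B
  haveI : Epi ψ := Preadditive.epi_of_cancel_zero _ fun {Z} χ hχ => by
    have hi : ∀ i, tmap (biproduct.ι (fun _ : Fin l => Coh.structureModule X) i) B ≫ χ = 0 := fun i => by
      have := congrArg (fun ξ => Sigma.ι (fun _ : Fin l => B) i ≫ ξ) hχ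
      simp only [comp_zero, ← Category.assoc] at this
      erw [Sigma.ι_desc] at this
      rw [Category.assoc] at this
      exact (cancel_epi (TMul.leftUnitIso B).inv).1 (this.trans comp_zero.symm)
    have hid : ∑ i : Fin l, tmap (biproduct.π (fun _ : Fin l => Coh.structureModule X) i) B ≫
        tmap (biproduct.ι (fun _ : Fin l => Coh.structureModule X) i) B = 𝟙 _ := by
      simp_rw [← CohFinite.tmap_comp, ← CohFinite.tmap_sum, biproduct.total, CohFinite.tmap_id]
    rw [← Category.id_comp χ, ← hid, Preadditive.sum_comp]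
    exact Finset.sum_eq_zero fun i _ => by rw [Category.assoc, hi, comp_zero]
  exact FreeCurve.gg_of_epi (ψ ≫ tmap φ B) (FreeCurve.gg_coprod _ fun _ => hB')

variable {k : Type u} [Field k]

theorem isUnit_two [CharZero k] (V : (T k).Opens) : IsUnit (2 : Γ(T k, V)) := by
  let f := pullback.fst (CohB1.ProjSpace.toSpec 1 k) (CohB1.ProjSpace.toSpec 1 k) ≫ CohB1.ProjSpace.toSpec 1 k
  let φ : k →+* Γ(T k, V) := (f.appLE ⊤ V le_top).hom.comp (Scheme.ΓSpecIso (CommRingCat.of k)).inv.hom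
  have h : IsUnit (2 : k) := isUnit_iff_ne_zero.2 (OfNat.ofNat_ne_zero 2)
  have := h.map φ
  rwa [map_ofNat] at this

theorem isBiReg_iff (F : (T k).Modules) (p q : ℤ) :
    W4c3multigrregular.IsBiReg 1 1 k F p q ↔ ∀ a b : ℕ, 0 < a + b →
      Subsingleton (Coh.HH (T k) (CohB1.tensorMod F (O k (p - a) (q - b))) (a + b)) := Iff.rfl

/-- A quotient of a regular bundle with kernel covered by a globally generated one. -/
theorem quot_step {M₁ M₂ N : (T k).Modules} (π : M₁ ⟶ N) [Epi π] (σ : M₂ ⟶ M₁) (h0 : σ ≫ π = 0)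
    [Epi (kernel.lift π σ h0)] (hM₁ : FlatMod.IsFinLocFree M₁) (hM₂ : FlatMod.IsFinLocFree M₂)
    (hN : FlatMod.IsFinLocFree N) (c d : ℤ) (hr₁ : W4c3multigrregular.IsBiReg 1 1 k M₁ c d)
    (hgg₁ : Curv2.IsGloballyGenerated (CohB1.tensorMod M₁ (O k c d)))
    (hgg₂ : Curv2.IsGloballyGenerated (CohB1.tensorMod M₂ (O k c d))) :
    Curv2.IsGloballyGenerated (CohB1.tensorMod N (O k c d)) ∧ W4c3multigrregular.IsBiReg 1 1 k N c d := by
  haveI := CohBig.epi_tmap π (O k c d)
  refine ⟨FreeCurve.gg_of_epi (tmap π (O k c d)) hgg₁, (isBiReg_iff N c d).2 fun a b hab => ?_⟩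
  have hK : Coh.IsQCoh (kernel π) :=
    QC.isQCoh_kernel (DQCoh.isQCoh_of_isFinLocFree hM₁) (DQCoh.isQCoh_of_isFinLocFree hN) π
  have hKtw : Coh.IsQCoh (CohB1.tensorMod (kernel π) (O k (c - (a : ℤ)) (d - (b : ℤ)))) :=
    isQCoh_tm hK (DQCoh.isQCoh_of_isFinLocFree (VBP1P1.isFinLocFree_O k _ _))
  have hS : (ShortComplex.mk (kernel.ι π) π (kernel.condition π)).ShortExact :=
    { exact := ShortComplex.exact_of_f_is_kernel _ (kernelIsKernel π) }
  refine CohBig.subsingleton_right (X := T k)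
    (CurveRR.shortExact_tmapR (PencilH1.hasFrames (VBP1P1.isFinLocFree_O k (c - (a : ℤ)) (d - (b : ℤ)))) hS)
    (a + b) ?_ ((isBiReg_iff M₁ c d).1 hr₁ a b hab)
  change Subsingleton (Coh.HH (T k) (CohB1.tensorMod (kernel π) (O k (c - (a : ℤ)) (d - (b : ℤ)))) (a + b + 1))
  rcases (by omega : a + b = 1 ∨ 1 < a + b) with h | h
  · rw [h]
    haveI := CohBig.epi_tmap (kernel.lift π σ h0) (O k (c - (a : ℤ)) (d - (b : ℤ)))
    refine CohBig.transfer_epi (X := T k) (tmap (kernel.lift π σ h0) (O k (c - (a : ℤ)) (d - (b : ℤ))))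
      2 (fun M hM => subsingleton_above k M hM 3 (by norm_num))
      (isQCoh_tm (DQCoh.isQCoh_of_isFinLocFree hM₂)
        (DQCoh.isQCoh_of_isFinLocFree (VBP1P1.isFinLocFree_O k _ _))) hKtw ?_
    obtain ⟨o⟩ := VBP1P1.nonempty_O_add (k := k) c d (-a : ℤ) (-b : ℤ)
    refine CohQC.hh_subsingleton_of_iso (TMul.assocIso _ _ _ ≪≫ PicGrp.tensorModIso (Iso.refl M₂)
      (o ≪≫ eqToIso (show O k (c + -(a : ℤ)) (d + -(b : ℤ)) = O k (c - a) (d - b) by ring_nf))) 2 ?_
    refine degree_two (K0Coh.isCoh_of_isFinLocFree (VBP1P1.isFinLocFree_O k _ _))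
      (K0Coh.isCoh_of_isFinLocFree (ResDesc.isFinLocFree_tensorMod hM₂ (VBP1P1.isFinLocFree_O k c d))) hgg₂ ?_
    refine VBP1P1.vanish _ _ 2 fun i j' hij => ?_
    rintro ⟨hi, hj'⟩
    simp only [VBP1P1.Supp] at hi hj'
    omega
  · exact subsingleton_above k _ hKtw _ (by omega)

variable [CharZero k]

/-- Exterior powers of a regular bundle with globally generated twist. -/
theorem isBiReg_extSh (G : (T k).Modules) (hG : FlatMod.IsFinLocFree G) (p q : ℤ)
    (hreg : W4c3multigrregular.IsBiReg 1 1 k G p q)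
    (hgg : Curv2.IsGloballyGenerated (CohB1.tensorMod G (O k p q))) (j : ℕ) :
    Curv2.IsGloballyGenerated (CohB1.tensorMod (extSh G j) (O k (j * p) (j * q))) ∧
      W4c3multigrregular.IsBiReg 1 1 k (extSh G j) (j * p) (j * q) := by
  haveI : IsProper (CohB1.ProjSpace.toSpec (1 : ℕ) k) := ProjMor.isProper_toSpec 1 k
  haveI := LocallyOfFiniteType.isLocallyNoetherian
    (pullback.fst (CohB1.ProjSpace.toSpec 1 k) (CohB1.ProjSpace.toSpec 1 k) ≫ CohB1.ProjSpace.toSpec 1 k)
  haveI : CompactSpace (T k) := QuasiCompact.compactSpace_of_compactSpace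
    (pullback.fst (CohB1.ProjSpace.toSpec 1 k) (CohB1.ProjSpace.toSpec 1 k) ≫ CohB1.ProjSpace.toSpec 1 k)
  induction j using Nat.twoStepInduction with
  | zero =>
    obtain ⟨φ₀, h₀⟩ := SGA6Ext.isExtPow_zero G
    obtain ⟨φ, h⟩ := SGA6Ext.isExtPow_extSh G 0 hG
    obtain ⟨e⟩ := SGA6Ext.nonempty_iso_of_phi (φ := φ) h (φ' := φ₀) h₀
    obtain ⟨o⟩ := VBP1P1.nonempty_O_zero (k := k)
    refine ⟨?_, fun a b hab => ?_⟩
    · exact FreeCurve.gg_of_epi ((TMul.leftUnitIso _).inv ≫ (PicGrp.tensorModIso e (eqToIso (by simp) ≪≫ o)).inv)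
        (gg_structureModule (T k))
    · refine CohQC.hh_subsingleton_of_iso (PicGrp.tensorModIso e (Iso.refl _) ≪≫ TMul.leftUnitIso _).symm (a + b) ?_
      refine VBP1P1.vanish _ _ (a + b) fun i j hij => ?_
      rintro ⟨hi, hj⟩
      simp only [VBP1P1.Supp] at hi hj
      omega
  | one =>
    obtain ⟨φ₁, h₁⟩ := SGA6Ext.isExtPow_one G
    obtain ⟨φ, h⟩ := SGA6Ext.isExtPow_extSh G 1 hG
    obtain ⟨e⟩ := SGA6Ext.nonempty_iso_of_phi (φ := φ₁) h₁ (φ' := φ) h
    refine ⟨FreeCurve.gg_of_epi (PicGrp.tensorModIso e (eqToIso (by simp))).hom hgg, fun a b hab => ?_⟩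
    refine CohQC.hh_subsingleton_of_iso (PicGrp.tensorModIso e (eqToIso ?_)) (a + b) (hreg a b hab)
    simp
  | more j hj hj1 =>
    have hlf : ∀ i : ℕ, FlatMod.IsFinLocFree (extSh G i) := fun i => isFinLocFree_extSh G i hG
    let c : ℤ := ((j + 2 : ℕ) : ℤ) * p
    let d : ℤ := ((j + 2 : ℕ) : ℤ) * q
    let M₁ := CohB1.tensorMod G (extSh G (j + 1))
    let M₂ := CohB1.tensorMod G (CohB1.tensorMod G (extSh G j))
    have hM₁ : FlatMod.IsFinLocFree M₁ := ResDesc.isFinLocFree_tensorMod hG (hlf _)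
    have hM₂ : FlatMod.IsFinLocFree M₂ :=
      ResDesc.isFinLocFree_tensorMod hG (ResDesc.isFinLocFree_tensorMod hG (hlf _))
    have hgg₁ : Curv2.IsGloballyGenerated (CohB1.tensorMod M₁ (O k c d)) := by
      obtain ⟨o⟩ := VBP1P1.nonempty_O_add (k := k) p q (((j + 1 : ℕ) : ℤ) * p) (((j + 1 : ℕ) : ℤ) * q)
      refine FreeCurve.gg_of_epi ((TMul.swapIso _ _ _ _).hom ≫ (PicGrp.tensorModIso (Iso.refl M₁)
        (o ≪≫ eqToIso (by simp only [c, d]; congr 1 <;> push_cast <;> ring))).hom) ?_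
      exact gg_tensor (K0Coh.isCoh_of_isFinLocFree (ResDesc.isFinLocFree_tensorMod hG (VBP1P1.isFinLocFree_O k p q)))
        hgg hj1.1
    have hgg₂ : Curv2.IsGloballyGenerated (CohB1.tensorMod M₂ (O k c d)) := by
      obtain ⟨o⟩ := VBP1P1.nonempty_O_add (k := k) p q ((j : ℤ) * p) ((j : ℤ) * q)
      obtain ⟨o'⟩ := VBP1P1.nonempty_O_add (k := k) p q (p + (j : ℤ) * p) (q + (j : ℤ) * q)
      refine FreeCurve.gg_of_epi ((TMul.swapIso _ _ _ _).hom ≫ (PicGrp.tensorModIso (Iso.refl M₂)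
        (o' ≪≫ eqToIso (by simp only [c, d]; congr 1 <;> push_cast <;> ring))).hom) ?_
      have hcoh := K0Coh.isCoh_of_isFinLocFree (ResDesc.isFinLocFree_tensorMod hG (VBP1P1.isFinLocFree_O k p q))
      exact gg_tensor hcoh hgg (FreeCurve.gg_of_epi
        ((TMul.swapIso _ _ _ _).hom ≫ (PicGrp.tensorModIso (Iso.refl _) o).hom) (gg_tensor hcoh hgg hj.1))
    have hr₁ : W4c3multigrregular.IsBiReg 1 1 k M₁ c d := by
      have := isBiReg_tensor G (extSh G (j + 1)) hG (hlf _) p q _ _ hreg hj1.2 hgg hj1.1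
      simp only [c, d]
      convert this using 1 <;> push_cast <;> ring
    haveI := epi_mul hG (j + 1)
    haveI := epi_lift hG (fun V _ => isUnit_two V) j
    exact quot_step (M₁ := M₁) (M₂ := M₂) (N := extSh G (j + 2)) (mul hG (j + 1)) (sym hG j) (sym_mul hG j)
      hM₁ hM₂ (hlf _) c d hr₁ hgg₁ hgg₂

/-- Any exterior power of a regular bundle with globally generated twist is regular. -/
theorem isBiReg_of_isExtPow (G : (T k).Modules) (hG : FlatMod.IsFinLocFree G) (p q : ℤ)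
    (hreg : W4c3multigrregular.IsBiReg 1 1 k G p q)
    (hgg : Curv2.IsGloballyGenerated (CohB1.tensorMod G (O k p q))) (j : ℕ) (L : (T k).Modules)
    (hL : ExtPow.IsExtPow j G L) : W4c3multigrregular.IsBiReg 1 1 k L (j * p) (j * q) := fun a b hab => by
  obtain ⟨φ₁, h₁⟩ := hL
  obtain ⟨φ, h⟩ := SGA6Ext.isExtPow_extSh G j hG
  obtain ⟨e⟩ := SGA6Ext.nonempty_iso_of_phi (φ := φ) h (φ' := φ₁) h₁
  exact CohQC.hh_subsingleton_of_iso (PicGrp.tensorModIso e (Iso.refl _)) (a + b)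
    ((isBiReg_extSh G hG p q hreg hgg j).2 a b hab)

end Groth.Agent.BiRegP1
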