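import Mathlib

/-!
# The beginning of the presentation `M ⊗ (M ⊗ ⋀ⁿ M) → M ⊗ ⋀ⁿ⁺¹ M → ⋀ⁿ⁺² M → 0` when `2` is invertible
-/

set_option autoImplicit false
set_option linter.style.haveILetI false
set_option linter.unusedSectionVars false

universe u

open TensorProduct

noncomputable section

namespace Groth.Agent.BiRegP1

variable (R : Type u) [CommRing R] (M : Type u) [AddCommGroup M] [Module R M]

/-- Multiplication by a vector on the left. -/
def lmul (n : ℕ) : M →ₗ[R] ↥(⋀[R]^n M) →ₗ[R] ↥(⋀[R]^(n + 1) M) :=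
  LinearMap.mk₂ R (fun m z => ⟨ExteriorAlgebra.ι R m * (z : ExteriorAlgebra R M), by
      rw [ExteriorAlgebra.exteriorPower, pow_succ']
      exact Submodule.mul_mem_mul (LinearMap.mem_range_self _ _) z.2⟩)
    (fun a a' b => Subtype.ext (by simp only [Submodule.coe_add, map_add, add_mul]))
    (fun c a b => Subtype.ext (by simp only [Submodule.coe_smul, map_smul, smul_mul_assoc]))
    (fun a b b' => Subtype.ext (by simp only [Submodule.coe_add, mul_add]))
    (fun c a b => Subtype.ext (by simp only [Submodule.coe_smul, mul_smul_comm]))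

theorem coe_lmul (n : ℕ) (m : M) (z : ↥(⋀[R]^n M)) :
    (lmul R M n m z : ExteriorAlgebra R M) = ExteriorAlgebra.ι R m * (z : ExteriorAlgebra R M) := rfl

theorem lmul_ιMulti (n : ℕ) (m : M) (v : Fin n → M) :
    lmul R M n m (exteriorPower.ιMulti R n v) = exteriorPower.ιMulti R (n + 1) (Matrix.vecCons m v) := by
  refine Subtype.ext ?_
  rw [coe_lmul, exteriorPower.ιMulti_apply_coe, exteriorPower.ιMulti_apply_coe, ExteriorAlgebra.ιMulti_succ_apply]
  simp [Matrix.vecTail, Function.comp_def]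

/-- Every element of the next exterior power is a sum of products. -/
theorem surjective_lift_lmul (n : ℕ) : Function.Surjective (TensorProduct.lift (lmul R M n)) := by
  refine LinearMap.range_eq_top.1 (eq_top_iff.2 ?_)
  rw [← exteriorPower.ιMulti_span R (n + 1) M, Submodule.span_le]
  rintro _ ⟨v, rfl⟩
  refine ⟨v 0 ⊗ₜ exteriorPower.ιMulti R n (Fin.tail v), ?_⟩
  rw [TensorProduct.lift.tmul, lmul_ιMulti]
  exact congrArg _ (Fin.cons_self_tail v)

/-- Symmetrization in the two vectors. -/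
def symMap (n : ℕ) : M ⊗[R] (M ⊗[R] ↥(⋀[R]^n M)) →ₗ[R] M ⊗[R] ↥(⋀[R]^(n + 1) M) :=
  TensorProduct.map LinearMap.id (TensorProduct.lift (lmul R M n)) ∘ₗ
    (LinearMap.id + (TensorProduct.leftComm R M M ↥(⋀[R]^n M)).toLinearMap)

theorem symMap_tmul (n : ℕ) (x y : M) (z : ↥(⋀[R]^n M)) :
    symMap R M n (x ⊗ₜ (y ⊗ₜ z)) = x ⊗ₜ lmul R M n y z + y ⊗ₜ lmul R M n x z := by
  simp [symMap]

/-- Insertion of the first vector. -/
def insQ (n : ℕ) : M →ₗ[R] MultilinearMap R (fun _ : Fin (n + 1) => M)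
    ((M ⊗[R] ↥(⋀[R]^(n + 1) M)) ⧸ LinearMap.range (symMap R M n)) where
  toFun x := ((LinearMap.range (symMap R M n)).mkQ ∘ₗ TensorProduct.mk R M _ x).compMultilinearMap
    (exteriorPower.ιMulti R (n + 1) (M := M)).toMultilinearMap
  map_add' x y := by ext v; simp
  map_smul' c x := by ext v; simp

theorem mkQ_self (h2 : IsUnit (2 : R)) (n : ℕ) (x : M) (w : ↥(⋀[R]^n M)) :
    (LinearMap.range (symMap R M n)).mkQ (x ⊗ₜ lmul R M n x w) = 0 := by
  have h : (2 : R) • (x ⊗ₜ[R] lmul R M n x w) ∈ LinearMap.range (symMap R M n) :=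
    ⟨x ⊗ₜ (x ⊗ₜ w), by rw [symMap_tmul, two_smul]⟩
  obtain ⟨c, hc⟩ := h2.exists_left_inv
  have h' := Submodule.smul_mem _ c h
  rw [smul_smul, hc, one_smul] at h'
  exact (Submodule.Quotient.mk_eq_zero _).2 h'

/-- The alternating map inverse to multiplication. -/
def altQ (h2 : IsUnit (2 : R)) (n : ℕ) :
    M [⋀^Fin (n + 2)]→ₗ[R] ((M ⊗[R] ↥(⋀[R]^(n + 1) M)) ⧸ LinearMap.range (symMap R M n)) :=
  AlternatingMap.mk (LinearMap.uncurryLeft (insQ R M n)) fun v i j hv hij => by
    change (LinearMap.range (symMap R M n)).mkQ (v 0 ⊗ₜ exteriorPower.ιMulti R (n + 1) (Fin.tail v)) = 0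
    have key : ∀ k : Fin (n + 1), v 0 = v k.succ →
        (LinearMap.range (symMap R M n)).mkQ (v 0 ⊗ₜ exteriorPower.ιMulti R (n + 1) (Fin.tail v)) = 0 := fun k hk => by
      have ht : Fin.tail v = k.insertNth (v 0) (k.removeNth (Fin.tail v)) := by
        rw [hk]
        exact (Fin.insertNth_self_removeNth k (Fin.tail v)).symm
      rw [ht, AlternatingMap.map_insertNth, ← lmul_ιMulti]
      rw [show ((-1 : ℤ) ^ (k : ℕ)) • lmul R M n (v 0) (exteriorPower.ιMulti R n (k.removeNth (Fin.tail v))) =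
        lmul R M n (v 0) (((-1 : ℤ) ^ (k : ℕ)) • exteriorPower.ιMulti R n (k.removeNth (Fin.tail v))) from
          (map_zsmul (lmul R M n (v 0)) _ _).symm]
      exact mkQ_self R M h2 n _ _
    induction i using Fin.cases with
    | zero =>
      induction j using Fin.cases with
      | zero => exact absurd rfl hij
      | succ b => exact key b hv
    | succ a =>
      induction j using Fin.cases with
      | zero => exact key a hv.symm
      | succ b =>
        rw [AlternatingMap.map_eq_zero_of_eq _ (Fin.tail v) (i := a) (j := b) hv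
          (fun h => hij (congrArg Fin.succ h)), tmul_zero, map_zero]

theorem altQ_cons (h2 : IsUnit (2 : R)) (n : ℕ) (x : M) (v : Fin (n + 1) → M) :
    altQ R M h2 n (Matrix.vecCons x v) =
      (LinearMap.range (symMap R M n)).mkQ (x ⊗ₜ exteriorPower.ιMulti R (n + 1) v) := rfl

/-- Exactness in the middle. -/
theorem mem_range_symMap (h2 : IsUnit (2 : R)) (n : ℕ) {t : M ⊗[R] ↥(⋀[R]^(n + 1) M)}
    (ht : TensorProduct.lift (lmul R M (n + 1)) t = 0) : t ∈ LinearMap.range (symMap R M n) := by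
  let s := exteriorPower.alternatingMapLinearEquiv (altQ R M h2 n)
  have hs : s ∘ₗ TensorProduct.lift (lmul R M (n + 1)) = (LinearMap.range (symMap R M n)).mkQ := by
    refine TensorProduct.ext (LinearMap.ext fun x => ?_)
    refine exteriorPower.linearMap_ext (AlternatingMap.ext fun v => ?_)
    simp only [LinearMap.compAlternatingMap_apply, LinearMap.compr₂_apply, TensorProduct.mk_apply,
      LinearMap.comp_apply, TensorProduct.lift.tmul, lmul_ιMulti, s,
      exteriorPower.alternatingMapLinearEquiv_apply_ιMulti, LinearMap.compr₂ₛₗ_apply]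
    exact altQ_cons R M h2 n x v
  have := LinearMap.congr_fun hs t
  rw [LinearMap.comp_apply, ht, map_zero] at this
  exact (Submodule.Quotient.mk_eq_zero _).1 this.symm

end Groth.Agent.BiRegP1
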